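import Groth.Agent.Lib.Lead.QC.CartierDense
import Groth.Prelude.Def_HTop3

universe u
open CategoryTheory Limits AlgebraicGeometry TopologicalSpace Opposite

namespace Groth.Agent.H5.ABU

open Groth.Agent.LD.QC

variable {X Y : Scheme.{u}}

/-- the inverse image of a locally principal ideal sheaf is locally principal. -/
theorem isLocPrincipal_comap (J : Y.IdealSheafData) (hJ : HTop.IsLocPrincipal J) (f : X ⟶ Y) :
    HTop.IsLocPrincipal (J.comap f) := by
  intro x
  obtain ⟨U, hxU, d, hd⟩ := hJ (f x)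
  obtain ⟨V, hV, hxV, e⟩ := exists_isAffineOpen_mem_and_subset (x := x) (U := f ⁻¹ᵁ U.1) hxU
  refine ⟨⟨V, hV⟩, hxV, f.appLE U.1 V e d, ?_⟩
  rw [ideal_comap_of_le J f U ⟨V, hV⟩ e, hd, Ideal.map_span, Set.image_singleton]

/-- a morphism under which `J` becomes effective Cartier kills the sections supported on `J`. -/
theorem supportedOn_le_ker (J : Y.IdealSheafData) (s : X ⟶ Y)
    (h : BlowUp.IsEffCartierIdeal (J.comap s)) : HTop.supportedOn J ≤ s.ker := by
  have hdom := isSchemeTheoreticallyDominant_compl_of_effCartier (J.comap s) h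
  rw [comap_support_compl_eq] at hdom
  have h1 : ((s ⁻¹ᵁ J.support.compl).ι ≫ s).ker = s.ker := by
    rw [Scheme.Hom.ker_comp, hdom.ker_eq_bot, Scheme.IdealSheafData.map_bot]
  have h2 : (s ⁻¹ᵁ J.support.compl).ι ≫ s = (s ∣_ J.support.compl) ≫ Scheme.Opens.ι (X := Y) J.support.compl :=
    (morphismRestrict_ι _ _).symm
  rw [← h1, h2, Scheme.Hom.ker_comp]
  unfold HTop.supportedOn HTop.awayFrom
  rw [← Scheme.IdealSheafData.map_bot]
  exact Scheme.IdealSheafData.map_mono _ bot_le

end Groth.Agent.H5.ABU
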