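import Groth.Agent.Lib.Helper5.ABU.AbuA

universe u
open CategoryTheory Limits AlgebraicGeometry TopologicalSpace Opposite

namespace Groth.Agent.H5.ABU

open Groth.Agent.LD.QC

variable {X Y : Scheme.{u}}

/-- restriction of the generator of a principal ideal to the complement of its support is a unit:
consequently an element whose product with the generator is killed on the complement is itself
killed there. -/
theorem app_compl_eq_zero_of_mul (J : Y.IdealSheafData) (V : Y.affineOpens) (f : Γ(Y, V.1))
    (hf : J.ideal V = Ideal.span {f}) (a : Γ(Y, V.1))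
    (h : (Scheme.Opens.ι (X := Y) J.support.compl).app V.1 (a * f) = 0) :
    (Scheme.Opens.ι (X := Y) J.support.compl).app V.1 a = 0 := by
  set W : Y.Opens := J.support.compl with hW
  have hWV : W ⊓ V.1 = Y.basicOpen f := compl_support_inf_eq_basicOpen J V f hf
  have hle : W.ι ''ᵁ (W.ι ⁻¹ᵁ V.1) ≤ Y.basicOpen f := by
    rw [Scheme.Hom.image_preimage_eq_opensRange_inf, Scheme.Opens.opensRange_ι, hWV]
  have hleV : W.ι ''ᵁ (W.ι ⁻¹ᵁ V.1) ≤ V.1 :=
    (Scheme.Hom.image_preimage_eq_opensRange_inf W.ι V.1).trans_le inf_le_right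
  have hunit : IsUnit (Y.presheaf.map (homOfLE hleV).op f) := by
    have h1 : IsUnit (Y.presheaf.map (homOfLE (Y.basicOpen_le f)).op f) :=
      RingedSpace.isUnit_res_basicOpen _ f
    have h2 : Y.presheaf.map (homOfLE hleV).op f =
        Y.presheaf.map (homOfLE hle).op (Y.presheaf.map (homOfLE (Y.basicOpen_le f)).op f) := by
      rw [← CommRingCat.comp_apply, ← Functor.map_comp]
      rfl
    rw [h2]
    exact h1.map _
  rw [Scheme.Opens.ι_app] at h ⊢
  have h0 : Y.presheaf.map (homOfLE hleV).op a * Y.presheaf.map (homOfLE hleV).op f = 0 := by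
    rw [← map_mul]
    exact h
  exact (hunit.mul_left_eq_zero).mp h0

/-- **the sections supported on a locally principal closed subscheme are exactly what must be
killed to make it an effective Cartier divisor.** -/
theorem isEffCartierIdeal_comap_supportedOn (J : Y.IdealSheafData) (hJ : HTop.IsLocPrincipal J) :
    BlowUp.IsEffCartierIdeal (J.comap (HTop.supportedOn J).subschemeι) := by
  haveI haff : IsAffineHom (Scheme.Opens.ι (X := Y) J.support.compl) :=
    isAffineHom_compl_of_locPrincipal J (fun x _ => by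
      obtain ⟨U, hx, a, h⟩ := hJ x
      exact ⟨U, hx, a, h⟩)
  have hKdef : HTop.supportedOn J = (Scheme.Opens.ι (X := Y) J.support.compl).ker := rfl
  set K := HTop.supportedOn J with hK
  intro x
  obtain ⟨V, hxV, f, hf⟩ := hJ (K.subschemeι x)
  have hVW : IsAffineOpen (K.subschemeι ⁻¹ᵁ V.1) := V.2.preimage K.subschemeι
  refine ⟨⟨K.subschemeι ⁻¹ᵁ V.1, hVW⟩, hxV, (K.subschemeι.app V.1) f, ?_, ?_⟩
  · rw [mem_nonZeroDivisors_iff_right]
    intro z hz
    obtain ⟨a, rfl⟩ := K.subschemeι_app_surjective V z
    have hmem : a * f ∈ K.ideal V := by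
      rw [← K.ker_subschemeι_app V, RingHom.mem_ker]
      change (K.subschemeι.app V.1) (a * f) = 0
      rw [map_mul]
      exact hz
    rw [hKdef, Scheme.Hom.ker_apply, RingHom.mem_ker] at hmem
    have h0 := app_compl_eq_zero_of_mul J V f hf a hmem
    have hmem' : a ∈ K.ideal V := by
      rw [hKdef, Scheme.Hom.ker_apply, RingHom.mem_ker]
      exact h0
    rw [← K.ker_subschemeι_app V, RingHom.mem_ker] at hmem'
    exact hmem'
  · rw [ideal_comap_of_le J K.subschemeι V ⟨_, hVW⟩ le_rfl, hf, Ideal.map_span, Set.image_singleton,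
      Scheme.Hom.appLE_eq_app]

end Groth.Agent.H5.ABU
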