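import Groth.Agent.Lib.Helper5.ABU.AbuB

universe u
open CategoryTheory Limits AlgebraicGeometry TopologicalSpace Opposite

namespace Groth.Agent.H5.ABU

open Groth.Agent.LD.QC

/-- **Transfer of the "almost blow up" property**: if the closed subscheme of `X'` cut out by the
sections supported on the (locally principal) inverse image of the centre is a blow up of `X`, then
the same holds for any `V` over `Y` and `X'` which behaves like `Y ×_X X'` as far as morphisms into
the blow up are concerned. -/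
theorem isBlowUp_transfer {X X' Y V : Scheme.{u}} {b : X' ⟶ X} (𝓘 : X.IdealSheafData)
    (hb : BlowUp.IsBlowUp ((HTop.supportedOn (𝓘.comap b)).subschemeι ≫ b) 𝓘)
    (hloc : HTop.IsLocPrincipal (𝓘.comap b))
    (g : Y ⟶ X) (b₁ : V ⟶ Y) (gX : V ⟶ X') (w : gX ≫ b = b₁ ≫ g)
    (hex : ∀ (T : Scheme.{u}) (t : T ⟶ Y) (u : T ⟶ X'), u ≫ b = t ≫ g →
      HTop.supportedOn (𝓘.comap b) ≤ u.ker → ∃ s : T ⟶ V, s ≫ b₁ = t ∧ s ≫ gX = u)
    (hmono : ∀ (T : Scheme.{u}) (s₁ s₂ : T ⟶ V), s₁ ≫ b₁ = s₂ ≫ b₁ → s₁ ≫ gX = s₂ ≫ gX →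
      s₁ = s₂) :
    BlowUp.IsBlowUp ((HTop.supportedOn ((𝓘.comap g).comap b₁)).subschemeι ≫ b₁)
      (𝓘.comap g) := by
  set J' := 𝓘.comap b with hJ'
  set K' := HTop.supportedOn J' with hK'
  set J := (𝓘.comap g).comap b₁ with hJ
  set K := HTop.supportedOn J with hK
  have hJJ' : J = J'.comap gX := by
    rw [hJ, hJ', ← Scheme.IdealSheafData.comap_comp, ← Scheme.IdealSheafData.comap_comp, w]
  have hJloc : HTop.IsLocPrincipal J := hJJ' ▸ isLocPrincipal_comap J' hloc gX
  have hcart : BlowUp.IsEffCartierIdeal (J.comap K.subschemeι) :=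
    isEffCartierIdeal_comap_supportedOn J hJloc
  have hc1 : K' ≤ (K.subschemeι ≫ gX).ker := by
    apply supportedOn_le_ker
    rw [Scheme.IdealSheafData.comap_comp, ← hJJ']
    exact hcart
  let c : K.subscheme ⟶ K'.subscheme :=
    IsClosedImmersion.lift K'.subschemeι (K.subschemeι ≫ gX)
      (by rw [Scheme.IdealSheafData.ker_subschemeι]; exact hc1)
  have hc : c ≫ K'.subschemeι = K.subschemeι ≫ gX := IsClosedImmersion.lift_fac _ _ _
  refine ⟨?_, ?_⟩
  · rw [Scheme.IdealSheafData.comap_comp]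
    exact hcart
  · intro T t ht
    have ht' : BlowUp.IsEffCartierIdeal (𝓘.comap (t ≫ g)) := by
      rw [Scheme.IdealSheafData.comap_comp]; exact ht
    obtain ⟨h', hh', huniq⟩ := hb.2 T (t ≫ g) ht'
    have hh'' : h' ≫ K'.subschemeι ≫ b = t ≫ g := hh'
    have hu : K' ≤ (h' ≫ K'.subschemeι).ker := by
      rw [Scheme.Hom.ker_comp]
      conv_lhs => rw [← K'.ker_subschemeι, ← Scheme.IdealSheafData.map_bot]
      exact Scheme.IdealSheafData.map_mono _ bot_le
    obtain ⟨s, hs1, hs2⟩ := hex T t (h' ≫ K'.subschemeι) (by rw [Category.assoc]; exact hh'') hu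
    have hsK : K ≤ s.ker := by
      apply supportedOn_le_ker
      rw [hJ, ← Scheme.IdealSheafData.comap_comp, hs1]
      exact ht
    let h : T ⟶ K.subscheme := IsClosedImmersion.lift K.subschemeι s
      (by rw [Scheme.IdealSheafData.ker_subschemeι]; exact hsK)
    have hh : h ≫ K.subschemeι = s := IsClosedImmersion.lift_fac _ _ _
    have key : ∀ h₁ : T ⟶ K.subscheme, h₁ ≫ K.subschemeι ≫ b₁ = t → h₁ ≫ c = h' := by
      intro h₁ hh₁
      apply huniq
      change (h₁ ≫ c) ≫ K'.subschemeι ≫ b = t ≫ g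
      rw [Category.assoc, reassoc_of% hc, w, ← hh₁, Category.assoc, Category.assoc]
    have hht : h ≫ K.subschemeι ≫ b₁ = t := by rw [reassoc_of% hh, hs1]
    refine ⟨h, hht, ?_⟩
    intro h₁ hh₁
    have hh₁' : h₁ ≫ K.subschemeι ≫ b₁ = t := hh₁
    rw [← cancel_mono K.subschemeι]
    apply hmono
    · rw [Category.assoc, Category.assoc, hh₁', hht]
    · rw [Category.assoc, Category.assoc, ← hc, ← Category.assoc, ← Category.assoc, key h₁ hh₁',
        key h hht]

end Groth.Agent.H5.ABU
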