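import Groth.Agent.Lib.Helper5.ABU.AbuC

universe u
open CategoryTheory Limits AlgebraicGeometry TopologicalSpace Opposite

namespace Groth.Agent.H5.ABU

open Groth.Agent.LD.QC

/-- the ideal of the base change of a closed immersion is the inverse image ideal. -/
theorem ker_of_isPullback {Z X Y Z₁ : Scheme.{u}} {i : Z ⟶ X} {g : Y ⟶ X} {i₁ : Z₁ ⟶ Y}
    {gZ : Z₁ ⟶ Z} [IsClosedImmersion i] (hZ : IsPullback gZ i₁ i g) : i₁.ker = i.ker.comap g := by
  rw [← Scheme.IdealSheafData.ker_fst_of_isClosedImmersion i g,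
    ← hZ.flip.isoPullback_hom_fst, Scheme.Hom.ker_comp_of_isIso]

/-- **S8982**: almost blow up squares are stable under arbitrary base change. -/
theorem isAlmostBlowUpSquare_baseChange {E Z X' X Y E₁ Z₁ X₁ : Scheme.{u}} {e : E ⟶ X'}
    {π : E ⟶ Z} {b : X' ⟶ X} {i : Z ⟶ X} (h : HTop.IsAlmostBlowUpSquare e π b i) (g : Y ⟶ X)
    {b₁ : X₁ ⟶ Y} {gX : X₁ ⟶ X'} (hX : IsPullback gX b₁ b g) {i₁ : Z₁ ⟶ Y} {gZ : Z₁ ⟶ Z}
    (hZ : IsPullback gZ i₁ i g) {e₁ : E₁ ⟶ X₁} {gE : E₁ ⟶ E} (hE : IsPullback gE e₁ e gX)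
    {π₁ : E₁ ⟶ Z₁} (hπ : π₁ ≫ i₁ = e₁ ≫ b₁) : HTop.IsAlmostBlowUpSquare e₁ π₁ b₁ i₁ := by
  haveI := h.isClosedImmersion
  haveI := h.finitePresentation_base
  haveI := h.isProper
  haveI := h.finitePresentation
  haveI hi₁ : IsClosedImmersion i₁ := MorphismProperty.of_isPullback hZ h.isClosedImmersion
  have hker : i₁.ker = i.ker.comap g := ker_of_isPullback hZ
  have hcomap : (i.ker.comap g).comap b₁ = (i.ker.comap b).comap gX := by
    rw [← Scheme.IdealSheafData.comap_comp, ← Scheme.IdealSheafData.comap_comp, hX.w]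
  have hπ' : π₁ ≫ gZ = gE ≫ π := by
    rw [← cancel_mono i, Category.assoc, Category.assoc, hZ.w, reassoc_of% hπ, ← hX.w,
      ← h.isPullback.w, reassoc_of% hE.w]
  refine ⟨hi₁, MorphismProperty.of_isPullback hZ h.finitePresentation_base, ?_, ?_,
    MorphismProperty.of_isPullback hX h.isProper,
    MorphismProperty.of_isPullback hX h.finitePresentation, ?_⟩
  · have hbig : IsPullback (π₁ ≫ gZ) e₁ i (b₁ ≫ g) := by
      rw [hπ', ← hX.w]
      exact (hE.flip.paste_vert h.isPullback).flip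
    exact (IsPullback.of_right hbig hπ hZ).flip
  · rw [hker, hcomap]
    exact isLocPrincipal_comap _ h.locPrincipal gX
  · rw [hker]
    refine isBlowUp_transfer i.ker h.isBlowUp h.locPrincipal g b₁ gX hX.w ?_ ?_
    · intro T t u hu _
      exact ⟨hX.lift u t hu, hX.lift_snd _ _ _, hX.lift_fst _ _ _⟩
    · intro T s₁ s₂ h1 h2
      exact hX.hom_ext h2 h1

end Groth.Agent.H5.ABU
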