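import Groth.Agent.Lib.Helper5.ABU.AbuD

universe u
open CategoryTheory Limits AlgebraicGeometry TopologicalSpace Opposite

namespace Groth.Agent.H5.ABU

open Groth.Agent.LD.QC

/-- **S8983**: shrinking the top right corner of an almost blow up square to a closed subscheme. -/
theorem isAlmostBlowUpSquare_closedImmersion_iff {E Z X' X W EW : Scheme.{u}} {e : E ⟶ X'}
    {π : E ⟶ Z} {b : X' ⟶ X} {i : Z ⟶ X} (h : HTop.IsAlmostBlowUpSquare e π b i) (w : W ⟶ X')
    [IsClosedImmersion w] [LocallyOfFinitePresentation w] {eW : EW ⟶ W} {gE : EW ⟶ E}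
    (hEW : IsPullback gE eW e w) :
    w.ker ≤ HTop.supportedOn (i.ker.comap b) ↔
      HTop.IsAlmostBlowUpSquare eW (gE ≫ π) (w ≫ b) i := by
  haveI := h.isClosedImmersion
  haveI := h.finitePresentation_base
  haveI := h.isProper
  haveI := h.finitePresentation
  constructor
  · intro hle
    refine ⟨h.isClosedImmersion, h.finitePresentation_base, hEW.flip.paste_vert h.isPullback, ?_,
      inferInstance, inferInstance, ?_⟩
    · rw [Scheme.IdealSheafData.comap_comp]
      exact isLocPrincipal_comap _ h.locPrincipal w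
    · have key := isBlowUp_transfer i.ker h.isBlowUp h.locPrincipal (𝟙 X) (w ≫ b) w
        (by rw [Category.comp_id]) ?_ ?_
      · rw [Scheme.IdealSheafData.comap_id] at key
        exact key
      · intro T t u hu hK
        refine ⟨IsClosedImmersion.lift w u (hle.trans hK), ?_, IsClosedImmersion.lift_fac _ _ _⟩
        rw [IsClosedImmersion.lift_fac_assoc, hu, Category.comp_id]
      · intro T s₁ s₂ _ h2
        exact (cancel_mono w).mp h2
  · intro H
    set J' := i.ker.comap b with hJ'
    set K' := HTop.supportedOn J' with hK'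
    set JW := i.ker.comap (w ≫ b) with hJW
    set KW := HTop.supportedOn JW with hKW
    have hJW' : JW = J'.comap w := by rw [hJW, hJ', Scheme.IdealSheafData.comap_comp]
    have hbW : BlowUp.IsBlowUp (KW.subschemeι ≫ w ≫ b) i.ker := H.isBlowUp
    have hbX : BlowUp.IsBlowUp (K'.subschemeι ≫ b) i.ker := h.isBlowUp
    have hc1 : K' ≤ (KW.subschemeι ≫ w).ker := by
      apply supportedOn_le_ker
      rw [hJ', ← Scheme.IdealSheafData.comap_comp, Category.assoc]
      exact hbW.1
    let c : KW.subscheme ⟶ K'.subscheme :=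
      IsClosedImmersion.lift K'.subschemeι (KW.subschemeι ≫ w)
        (by rw [Scheme.IdealSheafData.ker_subschemeι]; exact hc1)
    have hc : c ≫ K'.subschemeι = KW.subschemeι ≫ w := IsClosedImmersion.lift_fac _ _ _
    obtain ⟨φ, hφ, -⟩ := hbW.2 K'.subscheme (K'.subschemeι ≫ b) hbX.1
    have hφ' : φ ≫ KW.subschemeι ≫ w ≫ b = K'.subschemeι ≫ b := hφ
    have hid : φ ≫ c = 𝟙 _ := by
      have e1 : (φ ≫ c) ≫ K'.subschemeι ≫ b = 𝟙 _ ≫ K'.subschemeι ≫ b := by
        rw [Category.assoc, reassoc_of% hc, hφ', Category.id_comp]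
      apply IsBlowUp.hom_ext hbX _ _ _ e1
      rw [e1, Category.id_comp]
      exact hbX.1
    have hfac : K'.subschemeι = (φ ≫ KW.subschemeι) ≫ w := by
      rw [Category.assoc, ← hc, ← Category.assoc, hid, Category.id_comp]
    have hker : K' = ((φ ≫ KW.subschemeι) ≫ w).ker := by
      rw [← hfac, Scheme.IdealSheafData.ker_subschemeι]
    rw [hker, Scheme.Hom.ker_comp, ← Scheme.IdealSheafData.map_bot]
    exact Scheme.IdealSheafData.map_mono _ bot_le

end Groth.Agent.H5.ABU
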