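import Groth.Agent.Lib.Helper5.ABU.AbuE

universe u
open CategoryTheory Limits AlgebraicGeometry TopologicalSpace Opposite

namespace Groth.Agent.H5.ABU

open Groth.Agent.LD.QC

/-- variant of `isBlowUp_transfer` in which the existence and uniqueness hypotheses may use that the
test morphism makes the centre effective Cartier. -/
theorem isBlowUp_transfer' {X X' Y V : Scheme.{u}} {b : X' ⟶ X} (𝓘 : X.IdealSheafData)
    (hb : BlowUp.IsBlowUp ((HTop.supportedOn (𝓘.comap b)).subschemeι ≫ b) 𝓘)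
    (hloc : HTop.IsLocPrincipal (𝓘.comap b))
    (g : Y ⟶ X) (b₁ : V ⟶ Y) (gX : V ⟶ X') (w : gX ≫ b = b₁ ≫ g)
    (hex : ∀ (T : Scheme.{u}) (t : T ⟶ Y) (u : T ⟶ X'),
      BlowUp.IsEffCartierIdeal ((𝓘.comap g).comap t) → u ≫ b = t ≫ g →
      HTop.supportedOn (𝓘.comap b) ≤ u.ker → ∃ s : T ⟶ V, s ≫ b₁ = t ∧ s ≫ gX = u)
    (hmono : ∀ (T : Scheme.{u}) (s₁ s₂ : T ⟶ V),
      BlowUp.IsEffCartierIdeal ((𝓘.comap g).comap (s₁ ≫ b₁)) → s₁ ≫ b₁ = s₂ ≫ b₁ →
      s₁ ≫ gX = s₂ ≫ gX → s₁ = s₂) :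
    BlowUp.IsBlowUp ((HTop.supportedOn ((𝓘.comap g).comap b₁)).subschemeι ≫ b₁)
      (𝓘.comap g) := by
  set J' := 𝓘.comap b with hJ'
  set K' := HTop.supportedOn J' with hK'
  set J := (𝓘.comap g).comap b₁ with hJ
  set K := HTop.supportedOn J with hK
  have hJJ' : J = J'.comap gX := by
    rw [hJ, hJ', ← Scheme.IdealSheafData.comap_comp, ← Scheme.IdealSheafData.comap_comp, w]
  have hJloc : HTop.IsLocPrincipal J := hJJ' ▸ isLocPrincipal_comap J' hloc gX
  have hcart : BlowUp.IsEffCartierIdeal (J.comap K.subschemeι) :=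
    isEffCartierIdeal_comap_supportedOn J hJloc
  have hc1 : K' ≤ (K.subschemeι ≫ gX).ker := by
    apply supportedOn_le_ker
    rw [Scheme.IdealSheafData.comap_comp, ← hJJ']
    exact hcart
  let c : K.subscheme ⟶ K'.subscheme :=
    IsClosedImmersion.lift K'.subschemeι (K.subschemeι ≫ gX)
      (by rw [Scheme.IdealSheafData.ker_subschemeι]; exact hc1)
  have hc : c ≫ K'.subschemeι = K.subschemeι ≫ gX := IsClosedImmersion.lift_fac _ _ _
  refine ⟨?_, ?_⟩
  · rw [Scheme.IdealSheafData.comap_comp]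
    exact hcart
  · intro T t ht
    have ht' : BlowUp.IsEffCartierIdeal (𝓘.comap (t ≫ g)) := by
      rw [Scheme.IdealSheafData.comap_comp]; exact ht
    obtain ⟨h', hh', huniq⟩ := hb.2 T (t ≫ g) ht'
    have hh'' : h' ≫ K'.subschemeι ≫ b = t ≫ g := hh'
    have hu : K' ≤ (h' ≫ K'.subschemeι).ker := by
      rw [Scheme.Hom.ker_comp]
      conv_lhs => rw [← K'.ker_subschemeι, ← Scheme.IdealSheafData.map_bot]
      exact Scheme.IdealSheafData.map_mono _ bot_le
    obtain ⟨s, hs1, hs2⟩ := hex T t (h' ≫ K'.subschemeι) ht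
      (by rw [Category.assoc]; exact hh'') hu
    have hsK : K ≤ s.ker := by
      apply supportedOn_le_ker
      rw [hJ, ← Scheme.IdealSheafData.comap_comp, hs1]
      exact ht
    let h : T ⟶ K.subscheme := IsClosedImmersion.lift K.subschemeι s
      (by rw [Scheme.IdealSheafData.ker_subschemeι]; exact hsK)
    have hh : h ≫ K.subschemeι = s := IsClosedImmersion.lift_fac _ _ _
    have key : ∀ h₁ : T ⟶ K.subscheme, h₁ ≫ K.subschemeι ≫ b₁ = t → h₁ ≫ c = h' := by
      intro h₁ hh₁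
      apply huniq
      change (h₁ ≫ c) ≫ K'.subschemeι ≫ b = t ≫ g
      rw [Category.assoc, reassoc_of% hc, w, ← hh₁, Category.assoc, Category.assoc]
    have hht : h ≫ K.subschemeι ≫ b₁ = t := by rw [reassoc_of% hh, hs1]
    refine ⟨h, hht, ?_⟩
    intro h₁ hh₁
    have hh₁' : h₁ ≫ K.subschemeι ≫ b₁ = t := hh₁
    rw [← cancel_mono K.subschemeι]
    apply hmono
    · rw [Category.assoc, hh₁']
      exact ht
    · rw [Category.assoc, Category.assoc, hh₁', hht]
    · rw [Category.assoc, Category.assoc, ← hc, ← Category.assoc, ← Category.assoc, key h₁ hh₁',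
        key h hht]

/-- **the fibre product of two almost blow up squares with the same centre is an almost blow up
square.** -/
theorem isAlmostBlowUpSquare_prod {Z X E₁ X₁ E₂ X₂ : Scheme.{u}} {i : Z ⟶ X} {e₁ : E₁ ⟶ X₁}
    {π₁ : E₁ ⟶ Z} {b₁ : X₁ ⟶ X} (h₁ : HTop.IsAlmostBlowUpSquare e₁ π₁ b₁ i) {e₂ : E₂ ⟶ X₂}
    {π₂ : E₂ ⟶ Z} {b₂ : X₂ ⟶ X} (h₂ : HTop.IsAlmostBlowUpSquare e₂ π₂ b₂ i) :
    HTop.IsAlmostBlowUpSquare (pullback.fst (pullback.fst b₁ b₂ ≫ b₁) i)
      (pullback.snd (pullback.fst b₁ b₂ ≫ b₁) i) (pullback.fst b₁ b₂ ≫ b₁) i := by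
  haveI := h₁.isProper
  haveI := h₁.finitePresentation
  haveI := h₂.isProper
  haveI := h₂.finitePresentation
  refine ⟨h₁.isClosedImmersion, h₁.finitePresentation_base, IsPullback.of_hasPullback _ _, ?_,
    inferInstance, inferInstance, ?_⟩
  · rw [Scheme.IdealSheafData.comap_comp]
    exact isLocPrincipal_comap _ h₁.locPrincipal _
  · have key := isBlowUp_transfer' i.ker h₁.isBlowUp h₁.locPrincipal (𝟙 X)
      (pullback.fst b₁ b₂ ≫ b₁) (pullback.fst b₁ b₂) (by rw [Category.comp_id]) ?_ ?_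
    · rw [Scheme.IdealSheafData.comap_id] at key
      exact key
    · intro T t u hcart hu hK
      rw [Scheme.IdealSheafData.comap_id] at hcart
      rw [Category.comp_id] at hu
      obtain ⟨r, hr, -⟩ := h₂.isBlowUp.2 T t hcart
      have hr' : r ≫ (HTop.supportedOn (i.ker.comap b₂)).subschemeι ≫ b₂ = t := hr
      refine ⟨pullback.lift u (r ≫ (HTop.supportedOn (i.ker.comap b₂)).subschemeι)
        (by rw [hu, Category.assoc, hr']), ?_, pullback.lift_fst _ _ _⟩
      rw [pullback.lift_fst_assoc, hu]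
    · intro T s₁ s₂ hcart hb hfst
      rw [Scheme.IdealSheafData.comap_id] at hcart
      apply pullback.hom_ext hfst
      have hcond : pullback.fst b₁ b₂ ≫ b₁ = pullback.snd b₁ b₂ ≫ b₂ := pullback.condition
      have hc₁ : BlowUp.IsEffCartierIdeal ((i.ker.comap b₂).comap (s₁ ≫ pullback.snd b₁ b₂)) := by
        rw [← Scheme.IdealSheafData.comap_comp, Category.assoc, ← hcond]
        exact hcart
      have hc₂ : BlowUp.IsEffCartierIdeal ((i.ker.comap b₂).comap (s₂ ≫ pullback.snd b₁ b₂)) := by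
        rw [← Scheme.IdealSheafData.comap_comp, Category.assoc, ← hcond, ← hb]
        exact hcart
      set K₂ := HTop.supportedOn (i.ker.comap b₂) with hK₂
      let r₁ : T ⟶ K₂.subscheme := IsClosedImmersion.lift K₂.subschemeι (s₁ ≫ pullback.snd b₁ b₂)
        (by rw [Scheme.IdealSheafData.ker_subschemeι]; exact supportedOn_le_ker _ _ hc₁)
      let r₂ : T ⟶ K₂.subscheme := IsClosedImmersion.lift K₂.subschemeι (s₂ ≫ pullback.snd b₁ b₂)
        (by rw [Scheme.IdealSheafData.ker_subschemeι]; exact supportedOn_le_ker _ _ hc₂)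
      have hr₁ : r₁ ≫ K₂.subschemeι = s₁ ≫ pullback.snd b₁ b₂ := IsClosedImmersion.lift_fac _ _ _
      have hr₂ : r₂ ≫ K₂.subschemeι = s₂ ≫ pullback.snd b₁ b₂ := IsClosedImmersion.lift_fac _ _ _
      have e : r₁ ≫ K₂.subschemeι ≫ b₂ = r₂ ≫ K₂.subschemeι ≫ b₂ := by
        rw [reassoc_of% hr₁, reassoc_of% hr₂, ← hcond]
        simpa only [Category.assoc] using hb
      have hrr : r₁ = r₂ := by
        apply IsBlowUp.hom_ext h₂.isBlowUp r₁ r₂ _ e
        rw [reassoc_of% hr₁, ← Category.assoc, Scheme.IdealSheafData.comap_comp]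
        exact hc₁
      rw [← hr₁, ← hr₂, hrr]

end Groth.Agent.H5.ABU
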