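import Groth.Agent.Lib.Helper5.ABU.AbuF
import Groth.Agent.Lib.Helper5.NApprox.IdlC

universe u
open CategoryTheory Limits AlgebraicGeometry TopologicalSpace Opposite

namespace Groth.Agent.H5.ABU

open Groth.Agent.H5.NApprox

/-- a closed subscheme of a qcqs scheme is the directed limit of finitely presented closed
subschemes (with closed immersions as transition maps). -/
theorem exists_limit_closed_fp {B P : Scheme.{u}} (ι : B ⟶ P) [IsClosedImmersion ι]
    [CompactSpace P] [QuasiSeparatedSpace P] :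
    ∃ (I : Type u) (_ : Preorder I) (_ : IsDirected I (fun a b => a ≤ b)) (_ : Nonempty I)
      (D : Iᵒᵖ ⥤ Over P) (c : Limits.Cone D) (_ : Limits.IsLimit c),
      (∀ i, IsClosedImmersion (D.obj i).hom ∧ LocallyOfFinitePresentation (D.obj i).hom) ∧
      (∀ (i j : Iᵒᵖ) (a : i ⟶ j), IsClosedImmersion (D.map a).left) ∧
      Nonempty (c.pt ≅ Over.mk ι) := by
  obtain ⟨I, pI, dI, nI, D₀, c₀, hc₀, haff, hft, ⟨e⟩⟩ := absApprox P
  haveI : ∀ {i j : Iᵒᵖ} (f : i ⟶ j), IsAffineHom (D₀.map f) := fun f => haff _ _ f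
  haveI : ∀ i, CompactSpace (D₀.obj i) := fun i => (hft i).1
  haveI : ∀ i, LocallyOfFiniteType (toZ (D₀.obj i)) := fun i => (hft i).2
  haveI : ∀ i, QuasiSeparatedSpace (D₀.obj i) := fun i => quasiSeparatedSpace_of_lft (D₀.obj i)
  haveI : ∀ i, IsLocallyNoetherian (D₀.obj i) := fun i =>
    LocallyOfFiniteType.isLocallyNoetherian (toZ (D₀.obj i))
  let p : c₀.pt ⟶ P := e.hom
  let j' : B ⟶ c₀.pt := ι ≫ e.inv
  haveI : IsClosedImmersion j' := inferInstance
  have hj'p : j' ≫ p = ι := by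
    simp only [j', p, Category.assoc, Iso.inv_hom_id, Category.comp_id]
  let K : c₀.pt.IdealSheafData := j'.ker
  refine ⟨I, pI, dI, nI, clD p (apxIdeal D₀ c₀ K) (fun a => apxIdeal_mono D₀ c₀ K a),
    clCone p (apxIdeal D₀ c₀ K) (fun a => apxIdeal_mono D₀ c₀ K a) K (apxIdeal_le D₀ c₀ K),
    clIsLimit p (apxIdeal D₀ c₀ K) (fun a => apxIdeal_mono D₀ c₀ K a) K (apxIdeal_le D₀ c₀ K)
      (exists_mem_apxIdeal D₀ c₀ hc₀ K), ?_, ?_, ⟨?_⟩⟩
  · intro μ
    haveI := apxIdeal_lfp D₀ c₀ K μ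
    change IsClosedImmersion ((apxIdeal D₀ c₀ K μ).subschemeι ≫ p) ∧
      LocallyOfFinitePresentation ((apxIdeal D₀ c₀ K μ).subschemeι ≫ p)
    exact ⟨inferInstance, inferInstance⟩
  · intro μ μ' a
    change IsClosedImmersion (Scheme.IdealSheafData.inclusion _)
    infer_instance
  · refine Over.isoMk (asIso j'.toImage).symm ?_
    change inv j'.toImage ≫ ι = K.subschemeι ≫ p
    rw [IsIso.inv_comp_eq, ← Category.assoc,
      show j'.toImage ≫ K.subschemeι = j' from j'.toImage_imageι, hj'p]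

end Groth.Agent.H5.ABU
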