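import Groth.Agent.Lib.Helper5.ABU.AbuG
import Groth.Agent.Lib.Helper5.NApprox.LimSepC
import Groth.Agent.Lib.Helper5.Lim.DescendIso
import Groth.Agent.Lib.Helper9.Misc.LFP1

universe u v₁ u₁
open CategoryTheory Limits AlgebraicGeometry TopologicalSpace Opposite

namespace Groth.Agent.H5.ABU

open Groth.Agent.H5.NApprox

section General

variable {C : Type u₁} [Category.{v₁} C] [HasPullbacks C]

/-- for a monomorphism `j : A ⟶ A'` over `B`, the diagonal of `A/B` is the pullback of the
diagonal of `A'/B`. -/
theorem isPullback_diagonal_of_mono {A A' B : C} (j : A ⟶ A') [Mono j] (t' : A' ⟶ B) (t : A ⟶ B)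
    (h : j ≫ t' = t) :
    IsPullback (pullback.diagonal t) j
      (pullback.map t t t' t' j j (𝟙 B) (by rw [Category.comp_id, h]) (by rw [Category.comp_id, h]))
      (pullback.diagonal t') := by
  refine ⟨⟨?_⟩, ⟨PullbackCone.IsLimit.mk _ (fun s => s.fst ≫ pullback.fst t t) ?_ ?_ ?_⟩⟩
  · apply pullback.hom_ext
    · rw [Category.assoc, pullback.lift_fst, pullback.diagonal_fst_assoc, Category.assoc,
        pullback.diagonal_fst]
      exact (Category.comp_id j).symm
    · rw [Category.assoc, pullback.lift_snd, pullback.diagonal_snd_assoc, Category.assoc,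
        pullback.diagonal_snd]
      exact (Category.comp_id j).symm
  · intro s
    have h1 : (s.fst ≫ pullback.fst t t) ≫ j = s.snd := by
      have := s.condition =≫ pullback.fst t' t'
      simp only [Category.assoc, pullback.lift_fst, pullback.diagonal_fst, Category.comp_id] at this
      rw [Category.assoc]
      exact this
    have h2 : (s.fst ≫ pullback.snd t t) ≫ j = s.snd := by
      have := s.condition =≫ pullback.snd t' t'
      simp only [Category.assoc, pullback.lift_snd, pullback.diagonal_snd, Category.comp_id] at this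
      rw [Category.assoc]
      exact this
    have h3 : s.fst ≫ pullback.fst t t = s.fst ≫ pullback.snd t t := by
      rw [← cancel_mono j, h1, h2]
    apply pullback.hom_ext
    · rw [Category.assoc, pullback.diagonal_fst]
      exact Category.comp_id (s.fst ≫ pullback.fst t t)
    · rw [Category.assoc, pullback.diagonal_snd, h3]
      exact Category.comp_id (s.fst ≫ pullback.snd t t)
  · intro s
    have := s.condition =≫ pullback.fst t' t'
    simp only [Category.assoc, pullback.lift_fst, pullback.diagonal_fst, Category.comp_id] at this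
    rw [Category.assoc]
    exact this
  · intro s m hm1 hm2
    rw [← hm1, Category.assoc, pullback.diagonal_fst]
    exact (Category.comp_id m).symm

end General

section Stage

variable {K : Type u} [Category.{u} K] [IsCofiltered K] (E : K ⥤ Scheme.{u})
  [∀ {i j : K} (a : i ⟶ j), IsAffineHom (E.map a)]
  [∀ k, CompactSpace (E.obj k)]
  {B : Scheme.{u}}
  (t : ∀ k, E.obj k ⟶ B) (ht : ∀ {k k' : K} (a : k ⟶ k'), E.map a ≫ t k' = t k)
  [∀ k, QuasiCompact (t k)] [∀ k, QuasiSeparated (t k)] [∀ k, LocallyOfFiniteType (t k)]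
  (cE : Cone E) (hcE : IsLimit cE) (f : cE.pt ⟶ B) (hf : ∀ k, cE.π.app k ≫ t k = f)

include hcE hf ht in
/-- If the limit of a system with monomorphic affine transition maps, of finite type over `B`,
is a monomorphism into `B`, so is a late stage. -/
theorem exists_mono_stage (hmono : ∀ {i j : K} (a : i ⟶ j), Mono (E.map a)) [Mono f] :
    ∃ k : K, Mono (t k) := by
  haveI : Nonempty K := IsCofiltered.nonempty
  obtain ⟨k₀⟩ := ‹Nonempty K›
  haveI : ∀ (i j : K) (a : i ⟶ j), IsAffineHom ((sqD E t ht).map a) :=
    fun _ _ a => sqT_affine E t ht a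
  haveI : CompactSpace ((sqD E t ht).obj k₀) := sq_compact E t k₀
  haveI hπmono : Mono (cE.π.app k₀) := by
    haveI : Mono (cE.π.app k₀ ≫ t k₀) := by rw [hf]; infer_instance
    exact mono_of_mono (cE.π.app k₀) (t k₀)
  let f₀ : E.obj k₀ ⟶ (sqD E t ht).obj k₀ := pullback.diagonal (t k₀)
  have hΦ : (@LocallyOfFinitePresentation ⊓ (@QuasiCompact ⊓ @QuasiSeparated) :
      MorphismProperty Scheme.{u}) f₀ := by
    refine ⟨?_, ?_, ?_⟩
    · exact (inferInstance : LocallyOfFinitePresentation (pullback.diagonal (t k₀)))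
    · exact (inferInstance : QuasiCompact (pullback.diagonal (t k₀)))
    · exact (inferInstance : QuasiSeparated (pullback.diagonal (t k₀)))
  -- the square at the limit
  have sq1 : IsPullback (pullback.diagonal f) (cE.π.app k₀)
      ((sqCone E t ht cE f hf).π.app k₀) f₀ :=
    isPullback_diagonal_of_mono (cE.π.app k₀) (t k₀) f (hf k₀)
  have h : MorphismProperty.isomorphisms Scheme.{u}
      (pullback.snd f₀ ((sqCone E t ht cE f hf).π.app k₀)) := by
    change IsIso _
    have e : sq1.flip.isoPullback.hom ≫ pullback.snd f₀ ((sqCone E t ht cE f hf).π.app k₀) =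
        pullback.diagonal f := sq1.flip.isoPullback_hom_snd
    have hd : IsIso (pullback.diagonal f) := (pullback.isIso_diagonal_iff f).mpr ‹Mono f›
    exact IsIso.of_isIso_fac_left (hh := hd) e
  obtain ⟨k, φ, hk⟩ := Lim.exists_bc_of_affineSystemDescent (sqD E t ht) (sqCone E t ht cE f hf)
    (sqIsLimit E t ht cE f hf hcE) Lim.affineSystemDescent_isomorphisms k₀ f₀ hΦ h
  refine ⟨k, ?_⟩
  haveI := hmono φ
  have sq2 : IsPullback (pullback.diagonal (t k)) (E.map φ) ((sqD E t ht).map φ) f₀ :=
    isPullback_diagonal_of_mono (E.map φ) (t k₀) (t k) (ht φ)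
  have hk' : IsIso (pullback.snd f₀ ((sqD E t ht).map φ)) := hk
  rw [← pullback.isIso_diagonal_iff]
  have e : sq2.flip.isoPullback.hom ≫ pullback.snd f₀ ((sqD E t ht).map φ) =
      pullback.diagonal (t k) := sq2.flip.isoPullback_hom_snd
  rw [← e]
  exact IsIso.comp_isIso' inferInstance hk'

end Stage

end Groth.Agent.H5.ABU
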