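import Groth.Agent.Lib.Helper5.ABU.AbuH

universe u
open CategoryTheory Limits AlgebraicGeometry TopologicalSpace Opposite

namespace Groth.Agent.H5.ABU

open Groth.Agent.LD.QC Groth.Agent.H5.NApprox

/-- comparison of the blow ups sitting inside two schemes over `X` related by a morphism: the blow up
inside the source maps isomorphically onto the one inside the target, hence by a closed immersion
into the target. -/
theorem isClosedImmersion_supportedOn_comp {X X' X₁ : Scheme.{u}} (𝓘 : X.IdealSheafData)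
    {b' : X' ⟶ X} {b₁ : X₁ ⟶ X} (p : X' ⟶ X₁) (hp : p ≫ b₁ = b')
    (hb' : BlowUp.IsBlowUp ((HTop.supportedOn (𝓘.comap b')).subschemeι ≫ b') 𝓘)
    (hb₁ : BlowUp.IsBlowUp ((HTop.supportedOn (𝓘.comap b₁)).subschemeι ≫ b₁) 𝓘) :
    IsClosedImmersion ((HTop.supportedOn (𝓘.comap b')).subschemeι ≫ p) := by
  set K' := HTop.supportedOn (𝓘.comap b') with hK'
  set K₁ := HTop.supportedOn (𝓘.comap b₁) with hK₁
  have hc1 : K₁ ≤ (K'.subschemeι ≫ p).ker := by
    apply supportedOn_le_ker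
    rw [← Scheme.IdealSheafData.comap_comp, Category.assoc, hp]
    exact hb'.1
  let ψ : K'.subscheme ⟶ K₁.subscheme :=
    IsClosedImmersion.lift K₁.subschemeι (K'.subschemeι ≫ p)
      (by rw [Scheme.IdealSheafData.ker_subschemeι]; exact hc1)
  have hψ : ψ ≫ K₁.subschemeι = K'.subschemeι ≫ p := IsClosedImmersion.lift_fac _ _ _
  obtain ⟨φ, hφ, -⟩ := hb'.2 K₁.subscheme (K₁.subschemeι ≫ b₁) hb₁.1
  have hφ' : φ ≫ K'.subschemeι ≫ b' = K₁.subschemeι ≫ b₁ := hφ
  have hψb : ψ ≫ K₁.subschemeι ≫ b₁ = K'.subschemeι ≫ b' := by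
    rw [reassoc_of% hψ, hp]
  have h1 : ψ ≫ φ = 𝟙 _ := by
    apply IsBlowUp.hom_ext hb'
    · rw [Category.assoc, hφ', hψb]
      exact hb'.1
    · rw [Category.assoc, hφ', hψb, Category.id_comp]
  have h2 : φ ≫ ψ = 𝟙 _ := by
    apply IsBlowUp.hom_ext hb₁
    · rw [Category.assoc, hψb, hφ']
      exact hb₁.1
    · rw [Category.assoc, hψb, hφ', Category.id_comp]
  haveI : IsIso ψ := ⟨φ, h1, h2⟩
  rw [← hψ]
  infer_instance

/-- **S8985**: two almost blow up squares with the same centre are dominated by a third one,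
embedded as a closed subscheme in each. -/
theorem exists_isAlmostBlowUpSquare_dominating {Z X E₁ X₁ E₂ X₂ : Scheme.{u}} [CompactSpace X]
    [QuasiSeparatedSpace X] (i : Z ⟶ X) [IsClosedImmersion i] [LocallyOfFinitePresentation i]
    {e₁ : E₁ ⟶ X₁} {π₁ : E₁ ⟶ Z} {b₁ : X₁ ⟶ X} (h₁ : HTop.IsAlmostBlowUpSquare e₁ π₁ b₁ i)
    {e₂ : E₂ ⟶ X₂} {π₂ : E₂ ⟶ Z} {b₂ : X₂ ⟶ X} (h₂ : HTop.IsAlmostBlowUpSquare e₂ π₂ b₂ i) :
    ∃ (E X' : Scheme.{u}) (e : E ⟶ X') (π : E ⟶ Z) (b : X' ⟶ X) (j₁ : X' ⟶ X₁) (j₂ : X' ⟶ X₂),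
      HTop.IsAlmostBlowUpSquare e π b i ∧ IsClosedImmersion j₁ ∧ IsClosedImmersion j₂ ∧
        j₁ ≫ b₁ = b ∧ j₂ ≫ b₂ = b := by
  haveI := h₁.isProper
  haveI := h₁.finitePresentation
  haveI := h₂.isProper
  haveI := h₂.finitePresentation
  have hP := isAlmostBlowUpSquare_prod h₁ h₂
  set p₁ : pullback b₁ b₂ ⟶ X₁ := pullback.fst b₁ b₂ with hp₁
  set p₂ : pullback b₁ b₂ ⟶ X₂ := pullback.snd b₁ b₂ with hp₂
  set bP : pullback b₁ b₂ ⟶ X := p₁ ≫ b₁ with hbP
  have hbP₂ : p₂ ≫ b₂ = bP := by rw [hbP, hp₁, hp₂, pullback.condition]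
  haveI : IsProper bP := hP.isProper
  haveI : LocallyOfFinitePresentation bP := hP.finitePresentation
  haveI : CompactSpace (pullback b₁ b₂ : Scheme.{u}) :=
    QuasiCompact.compactSpace_of_compactSpace bP
  haveI : QuasiSeparatedSpace (pullback b₁ b₂ : Scheme.{u}) :=
    quasiSeparatedSpace_of_quasiSeparated bP
  set J := HTop.supportedOn (i.ker.comap bP) with hJ
  -- the blow up inside `P` embeds into both factors
  haveI hι₁ : IsClosedImmersion (J.subschemeι ≫ p₁) :=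
    isClosedImmersion_supportedOn_comp i.ker p₁ rfl hP.isBlowUp h₁.isBlowUp
  haveI hι₂ : IsClosedImmersion (J.subschemeι ≫ p₂) :=
    isClosedImmersion_supportedOn_comp i.ker p₂ hbP₂ hP.isBlowUp h₂.isBlowUp
  obtain ⟨I, pI, dI, nI, D, c, hc, hprops, hcl, ⟨eiso⟩⟩ := exists_limit_closed_fp J.subschemeι
  haveI : ∀ μ, IsClosedImmersion (D.obj μ).hom := fun μ => (hprops μ).1
  haveI : ∀ μ, LocallyOfFinitePresentation (D.obj μ).hom := fun μ => (hprops μ).2
  haveI : ∀ {μ ν : Iᵒᵖ} (a : μ ⟶ ν), IsClosedImmersion ((D ⋙ Over.forget _).map a) :=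
    fun a => hcl _ _ a
  haveI : ∀ {μ ν : Iᵒᵖ} (a : μ ⟶ ν), IsAffineHom ((D ⋙ Over.forget _).map a) :=
    fun a => inferInstance
  have hcptD : ∀ μ, CompactSpace (D.obj μ).left := fun μ =>
    QuasiCompact.compactSpace_of_compactSpace (D.obj μ).hom
  have hcpt : c.pt.hom = eiso.hom.left ≫ J.subschemeι := (Over.w eiso.hom).symm
  have hcE := isLimitForget D c hc
  -- the two stage lemmas
  have stage : ∀ {Y : Scheme.{u}} (q : pullback b₁ b₂ ⟶ Y) [IsProper q]
      [LocallyOfFiniteType q] [IsClosedImmersion (J.subschemeι ≫ q)],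
      ∃ μ : Iᵒᵖ, Mono ((D.obj μ).hom ≫ q) := by
    intro Y q _ _ _
    haveI : Mono (c.pt.hom ≫ q) := by
      rw [hcpt, Category.assoc]
      infer_instance
    exact @exists_mono_stage Iᵒᵖ _ _ (D ⋙ Over.forget _) (fun a => inferInstance) hcptD Y
      (fun μ => (D.obj μ).hom ≫ q)
      (fun a => by
        change (D.map a).left ≫ (D.obj _).hom ≫ q = _
        rw [Over.w_assoc]
        rfl)
      (fun μ => inferInstanceAs (QuasiCompact (X := (D.obj μ).left) ((D.obj μ).hom ≫ q)))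
      (fun μ => inferInstanceAs (QuasiSeparated (X := (D.obj μ).left) ((D.obj μ).hom ≫ q)))
      (fun μ => inferInstanceAs (LocallyOfFiniteType (X := (D.obj μ).left) ((D.obj μ).hom ≫ q)))
      ((Over.forget _).mapCone c) hcE (c.pt.hom ≫ q)
      (fun μ => by
        change (c.π.app μ).left ≫ (D.obj μ).hom ≫ q = _
        rw [Over.w_assoc]
        rfl)
      (fun a => inferInstance) this
  obtain ⟨μ₁, hμ₁⟩ := stage p₁
  obtain ⟨μ₂, hμ₂⟩ := stage p₂
  obtain ⟨μ, hμ1, hμ2⟩ := directed_of (· ≤ ·) μ₁.unop μ₂.unop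
  let a₁ : op μ ⟶ μ₁ := (homOfLE hμ1).op
  let a₂ : op μ ⟶ μ₂ := (homOfLE hμ2).op
  set w : (D.obj (op μ)).left ⟶ pullback b₁ b₂ := (D.obj (op μ)).hom with hw
  haveI : IsClosedImmersion w := (hprops (op μ)).1
  haveI : LocallyOfFinitePresentation w := (hprops (op μ)).2
  have hm₁ : Mono (w ≫ p₁) := by
    have : w ≫ p₁ = (D.map a₁).left ≫ (D.obj μ₁).hom ≫ p₁ := by rw [Over.w_assoc]
    rw [this]
    haveI : Mono (D.map a₁).left := by
      haveI : IsClosedImmersion (D.map a₁).left := hcl _ _ a₁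
      infer_instance
    exact mono_comp _ _
  have hm₂ : Mono (w ≫ p₂) := by
    have : w ≫ p₂ = (D.map a₂).left ≫ (D.obj μ₂).hom ≫ p₂ := by rw [Over.w_assoc]
    rw [this]
    haveI : Mono (D.map a₂).left := by
      haveI : IsClosedImmersion (D.map a₂).left := hcl _ _ a₂
      infer_instance
    exact mono_comp _ _
  have hj₁ : IsClosedImmersion (w ≫ p₁) :=
    (IsClosedImmersion.iff_isProper_and_mono _).mpr ⟨inferInstance, hm₁⟩
  have hj₂ : IsClosedImmersion (w ≫ p₂) :=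
    (IsClosedImmersion.iff_isProper_and_mono _).mpr ⟨inferInstance, hm₂⟩
  -- the kernel of `w` consists of sections supported on the exceptional locus
  have hle : w.ker ≤ J := by
    have h1 : (c.π.app (op μ)).left ≫ w = c.pt.hom := Over.w (c.π.app (op μ))
    have hι : J.subschemeι = (eiso.inv.left ≫ (c.π.app (op μ)).left) ≫ w := by
      rw [Category.assoc, h1, hcpt, ← Category.assoc, ← Over.comp_left, Iso.inv_hom_id]
      exact (Category.id_comp _).symm
    conv_rhs => rw [← J.ker_subschemeι, hι, Scheme.Hom.ker_comp]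
    rw [← Scheme.IdealSheafData.map_bot]
    exact Scheme.IdealSheafData.map_mono _ bot_le
  have habu := (isAlmostBlowUpSquare_closedImmersion_iff hP w
    (IsPullback.of_hasPullback (pullback.fst bP i) w)).mp hle
  exact ⟨_, _, _, _, _, w ≫ p₁, w ≫ p₂, habu, hj₁, hj₂, by rw [Category.assoc],
    by rw [Category.assoc, hbP₂]⟩

end Groth.Agent.H5.ABU
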