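import Groth.Agent.Lib.Helper5.ABU.AbuI
import Groth.Agent.Lib.Helper9.Misc.BLA12

universe u
open CategoryTheory Limits AlgebraicGeometry TopologicalSpace Opposite

namespace Groth.Agent.H5.ABU

open Groth.Agent.LD.QC Groth.Agent.H5.NApprox

section Apx

variable {I : Type u} [Category.{u} I] [IsCofiltered I] (D : I ⥤ Scheme.{u})
  [∀ {i j : I} (f : i ⟶ j), IsAffineHom (D.map f)]
  (c : Cone D) (hc : IsLimit c) (K : c.pt.IdealSheafData)

include hc in
/-- a finitely generated ideal of sections of `K` lies in some approximating ideal sheaf. -/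
theorem exists_le_apxIdeal_of_fg [∀ i, QuasiSeparatedSpace (D.obj i)] (U : c.pt.affineOpens)
    (hK : (K.ideal U).FG) : ∃ μ, K.ideal U ≤ (apxIdeal D c K μ).ideal U := by
  classical
  obtain ⟨G, hG⟩ := hK
  have h : ∀ g : G, ∃ μ, (g : Γ(c.pt, U.1)) ∈ (apxIdeal D c K μ).ideal U := by
    intro g
    apply exists_mem_apxIdeal D c hc K U g.1
    rw [← hG]
    exact Ideal.subset_span g.2
  choose μg hμg using h
  obtain ⟨μ, hμ⟩ := IsCofiltered.inf_objs_exists (Finset.univ.image μg)
  refine ⟨μ, ?_⟩
  rw [← hG, Ideal.span_le]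
  intro g hg
  have a : μ ⟶ μg ⟨g, hg⟩ := (hμ (Finset.mem_image_of_mem μg (Finset.mem_univ _))).some
  exact apxIdeal_mono D c K a U (hμg ⟨g, hg⟩)

include hc in
/-- an ideal sheaf of finite type on a quasi-compact limit comes from a finite stage. -/
theorem exists_apxIdeal_eq [∀ i, QuasiSeparatedSpace (D.obj i)] [CompactSpace c.pt]
    (hK : ∀ U : c.pt.affineOpens, (K.ideal U).FG) : ∃ μ, apxIdeal D c K μ = K := by
  classical
  let 𝒰 := c.pt.affineCover.finiteSubcover
  let U : 𝒰.I₀ → c.pt.affineOpens := fun j => ⟨(𝒰.f j).opensRange, isAffineOpen_opensRange _⟩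
  have hU : ⨆ j, (U j).1 = ⊤ := 𝒰.iSup_opensRange
  have h := fun j => exists_le_apxIdeal_of_fg D c hc K (U j) (hK (U j))
  choose μj hμj using h
  obtain ⟨μ, hμ⟩ := IsCofiltered.inf_objs_exists (Finset.univ.image μj)
  refine ⟨μ, le_antisymm (apxIdeal_le D c K μ) ?_⟩
  refine Scheme.IdealSheafData.le_of_iSup_eq_top U hU (fun j => ?_)
  have a : μ ⟶ μj j := (hμ (Finset.mem_image_of_mem μj (Finset.mem_univ _))).some
  exact (hμj j).trans (apxIdeal_mono D c K a (U j))

end Apx

/-- an effective Cartier ideal is locally principal. -/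
theorem isLocPrincipal_of_isEffCartierIdeal {X : Scheme.{u}} (J : X.IdealSheafData)
    (h : BlowUp.IsEffCartierIdeal J) : HTop.IsLocPrincipal J := by
  intro x
  obtain ⟨U, hx, f, -, hf⟩ := h x
  exact ⟨U, hx, f, hf⟩

/-- no nonzero section is supported on an effective Cartier divisor. -/
theorem supportedOn_eq_bot {X : Scheme.{u}} (J : X.IdealSheafData)
    (h : BlowUp.IsEffCartierIdeal J) : HTop.supportedOn J = ⊥ := by
  have := supportedOn_le_ker J (𝟙 X) (by rw [Scheme.IdealSheafData.comap_id]; exact h)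
  rw [Scheme.Hom.ker_eq_bot_of_isIso] at this
  exact le_bot_iff.mp this

/-- a blow up square with proper finitely presented blow up is an almost blow up square. -/
theorem isAlmostBlowUpSquare_of_isBlowUp {Z X X' : Scheme.{u}} (i : Z ⟶ X) [IsClosedImmersion i]
    [LocallyOfFinitePresentation i] (b : X' ⟶ X) (hb : BlowUp.IsBlowUp b i.ker) [IsProper b]
    [LocallyOfFinitePresentation b] :
    HTop.IsAlmostBlowUpSquare (pullback.fst b i) (pullback.snd b i) b i := by
  refine ⟨inferInstance, inferInstance, IsPullback.of_hasPullback b i,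
    isLocPrincipal_of_isEffCartierIdeal _ hb.1, inferInstance, inferInstance, ?_⟩
  have h0 : HTop.supportedOn (i.ker.comap b) = ⊥ := supportedOn_eq_bot _ hb.1
  haveI : IsIso (HTop.supportedOn (i.ker.comap b)).subschemeι := by
    rw [Scheme.isIso_subschemeι_iff_eq_bot]
    exact h0
  exact Groth.Agent.H9.BLA.isBlowUp_of_iso_source
    (asIso (HTop.supportedOn (i.ker.comap b)).subschemeι) hb

end Groth.Agent.H5.ABU
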