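import Groth.Agent.Lib.Helper5.ABU.AbuJ
import Groth.Agent.Lib.Helper9.Misc.BLA10
import Groth.Agent.Lib.Helper5.NApprox.FgIdA

universe u
open CategoryTheory Limits AlgebraicGeometry TopologicalSpace Opposite

namespace Groth.Agent.H5.ABU

open Groth.Agent.LD.QC Groth.Agent.H5.NApprox

/-- **S8984**: over a quasi-compact quasi-separated scheme every finitely presented closed subscheme
is the centre of an almost blow up square. -/
theorem exists_isAlmostBlowUpSquare {Z X : Scheme.{u}} [CompactSpace X] [QuasiSeparatedSpace X]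
    (i : Z ⟶ X) [IsClosedImmersion i] [LocallyOfFinitePresentation i] :
    ∃ (E X' : Scheme.{u}) (e : E ⟶ X') (π : E ⟶ Z) (b : X' ⟶ X),
      HTop.IsAlmostBlowUpSquare e π b i := by
  obtain ⟨I, pI, dI, nI, D₀, c₀, hc₀, haff, hft, ⟨e⟩⟩ := absApprox X
  haveI : ∀ {i j : Iᵒᵖ} (f : i ⟶ j), IsAffineHom (D₀.map f) := fun f => haff _ _ f
  haveI : ∀ i, CompactSpace (D₀.obj i) := fun i => (hft i).1
  haveI : ∀ i, LocallyOfFiniteType (toZ (D₀.obj i)) := fun i => (hft i).2
  haveI : ∀ i, QuasiSeparatedSpace (D₀.obj i) := fun i => quasiSeparatedSpace_of_lft (D₀.obj i)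
  haveI : ∀ i, IsLocallyNoetherian (D₀.obj i) := fun i =>
    LocallyOfFiniteType.isLocallyNoetherian (toZ (D₀.obj i))
  haveI : CompactSpace c₀.pt := QuasiCompact.compactSpace_of_compactSpace e.hom
  let i' : Z ⟶ c₀.pt := i ≫ e.inv
  haveI : IsClosedImmersion i' := inferInstance
  haveI : LocallyOfFinitePresentation i' := inferInstance
  obtain ⟨μ, hμ⟩ := exists_apxIdeal_eq D₀ c₀ hc₀ i'.ker (fg_ker_of_lfp i')
  set πμ : c₀.pt ⟶ D₀.obj μ := c₀.π.app μ with hπμ
  set Kμ : (D₀.obj μ).IdealSheafData := i'.ker.map πμ with hKμ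
  have hcomap : Kμ.comap πμ = i'.ker := hμ
  -- the blow up at the finite stage
  obtain ⟨Bμ, bμ, hbμ⟩ := Groth.Agent.H9.BLA.exists_isBlowUp (D₀.obj μ) Kμ
  have hKft : BlowUp.IsFiniteTypeIdeal Kμ := by
    intro U
    haveI : IsNoetherianRing Γ(D₀.obj μ, U.1) := IsLocallyNoetherian.component_noetherian U
    exact IsNoetherian.noetherian _
  haveI : IsProper bμ := Groth.Agent.H9.BLA.IsBlowUp.isProper hbμ hKft
  haveI : LocallyOfFinitePresentation bμ := inferInstance
  haveI : LocallyOfFinitePresentation Kμ.subschemeι := inferInstance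
  have habu := isAlmostBlowUpSquare_of_isBlowUp Kμ.subschemeι bμ
    (by rw [Scheme.IdealSheafData.ker_subschemeι]; exact hbμ)
  -- the centre is pulled back from the finite stage
  have hker : (i' ≫ πμ).ker = Kμ := Scheme.Hom.ker_comp _ _
  let gZ : Z ⟶ Kμ.subscheme := IsClosedImmersion.lift Kμ.subschemeι (i' ≫ πμ)
    (by rw [Scheme.IdealSheafData.ker_subschemeι, hker])
  have hgZ : gZ ≫ Kμ.subschemeι = i' ≫ πμ := IsClosedImmersion.lift_fac _ _ _
  have sq1 : IsPullback gZ i' Kμ.subschemeι πμ :=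
    (isPullback_of_isClosedImmersion i' Kμ.subschemeι gZ πμ hgZ.symm
      (by rw [Scheme.IdealSheafData.ker_subschemeι, hcomap])).flip
  have sq0 : IsPullback (𝟙 Z) i i' e.inv :=
    IsPullback.of_horiz_isIso ⟨by rw [Category.id_comp]⟩
  have hZ : IsPullback (𝟙 Z ≫ gZ) i Kμ.subschemeι (e.inv ≫ πμ) := sq0.paste_horiz sq1
  set g : X ⟶ D₀.obj μ := e.inv ≫ πμ with hg
  have hX := IsPullback.of_hasPullback bμ g
  have hE := IsPullback.of_hasPullback (pullback.fst bμ Kμ.subschemeι) (pullback.fst bμ g)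
  have hcomm : (pullback.fst (pullback.fst bμ Kμ.subschemeι) (pullback.fst bμ g) ≫
      pullback.snd bμ Kμ.subschemeι) ≫ Kμ.subschemeι =
      (pullback.snd (pullback.fst bμ Kμ.subschemeι) (pullback.fst bμ g) ≫
        pullback.snd bμ g) ≫ g := by
    rw [Category.assoc, ← pullback.condition, ← Category.assoc, hE.w, Category.assoc, hX.w,
      Category.assoc]
  exact ⟨_, _, _, hZ.lift _ _ hcomm, _, isAlmostBlowUpSquare_baseChange habu g hX hZ hE
    (hZ.lift_snd _ _ hcomm)⟩

end Groth.Agent.H5.ABU
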